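import Mathlib

/-!
# Skeleta and non-degenerate simplices
-/

set_option autoImplicit false

universe u

namespace Groth.SkSSet

open CategoryTheory Opposite Simplicial SSet

variable {U V : SSet.{u}} (f : U ⟶ V)
  (ha : ∀ (n : ℕ) (x : U _⦋n⦌), x ∈ U.nonDegenerate n → f.app (op ⦋n⦌) x ∈ V.nonDegenerate n)

include ha

theorem injective_app (hb : ∀ n : ℕ, Set.InjOn (f.app (op ⦋n⦌)) (U.nonDegenerate n)) (n : ℕ) :
    Function.Injective (f.app (op ⦋n⦌)) := by
  intro x x' e
  obtain ⟨m, g, hg, y, rfl⟩ := U.exists_nonDegenerate x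
  obtain ⟨m', g', hg', y', rfl⟩ := U.exists_nonDegenerate x'
  have h1 : f.app _ (U.map g.op y.1) = V.map g.op (f.app _ y.1) := NatTrans.naturality_apply f g.op y.1
  have h2 : f.app _ (U.map g'.op y'.1) = V.map g'.op (f.app _ y'.1) := NatTrans.naturality_apply f g'.op y'.1
  rw [h1, h2] at e
  obtain rfl := V.unique_nonDegenerate_dim _ g ⟨_, ha m _ y.2⟩ rfl g' ⟨_, ha m' _ y'.2⟩ e
  have hy := V.unique_nonDegenerate_simplex _ g ⟨_, ha m _ y.2⟩ rfl g' ⟨_, ha m _ y'.2⟩ e
  have hg'' := V.unique_nonDegenerate_map _ g ⟨_, ha m _ y.2⟩ rfl g' ⟨_, ha m _ y'.2⟩ e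
  rw [hg'', hb m y.2 y'.2 (congrArg Subtype.val hy)]

omit ha in
theorem surjective_app (hb : ∀ n : ℕ, Set.SurjOn (f.app (op ⦋n⦌)) (U.nonDegenerate n) (V.nonDegenerate n))
    (n : ℕ) : Function.Surjective (f.app (op ⦋n⦌)) := by
  intro y
  obtain ⟨m, g, hg, z, rfl⟩ := V.exists_nonDegenerate y
  obtain ⟨x, -, hx⟩ := hb m z.2
  exact ⟨U.map g.op x, (NatTrans.naturality_apply f g.op x).trans (congrArg _ hx)⟩

omit ha

variable (m : ℕ) (W : SSet.Truncated.{u} m)

theorem skeleton_eq_top : ((SSet.Truncated.sk m).obj W).skeleton (m + 1) = ⊤ := by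
  let S := (SSet.Truncated.sk m).obj W
  let T := S.skeleton (m + 1)
  let η := (SSet.skAdj m).unit.app W
  let g : W ⟶ (SSet.truncation m).obj (T : SSet) :=
    { app := fun k => TypeCat.ofHom fun x =>
        ⟨η.app k x, S.mem_skeleton (i := k.unop.1.len) (η.app k x) (Nat.lt_succ_of_le k.unop.2)⟩
      naturality := fun a b θ => by
        ext x
        refine Subtype.ext ?_
        exact NatTrans.naturality_apply η θ x }
  have hg : g ≫ (SSet.truncation m).map T.ι = η := rfl
  have hs : ((SSet.skAdj m).homEquiv _ _).symm g ≫ T.ι = 𝟙 S := by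
    rw [← (SSet.skAdj m).homEquiv_naturality_right_symm, hg]
    exact (SSet.skAdj m).left_triangle_components W
  ext k x
  refine iff_of_true ?_ trivial
  have := ConcreteCategory.congr_hom (NatTrans.congr_app hs k) x
  rw [← show T.ι.app k ((((SSet.skAdj m).homEquiv _ _).symm g).app k x) = x from this]
  exact ((((SSet.skAdj m).homEquiv _ _).symm g).app k x).2

theorem mem_skeleton' {k : SimplexCategoryᵒᵖ} (x : ((SSet.Truncated.sk m).obj W).obj k) :
    x ∈ (((SSet.Truncated.sk m).obj W).skeleton (m + 1)).obj k := by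
  rw [skeleton_eq_top]
  trivial

theorem hasDimensionLT_sk : ((SSet.Truncated.sk m).obj W).HasDimensionLT (m + 1) := by
  refine ⟨fun n hn => ?_⟩
  ext x
  refine iff_of_true ?_ trivial
  rw [SSet.mem_degenerate_iff_notMem_nonDegenerate]
  intro hx
  have := (((SSet.Truncated.sk m).obj W).mem_skeleton_obj_iff_of_nonDegenerate ⟨x, hx⟩ (m + 1)).1
    (mem_skeleton' m W x)
  omega

variable (U)

theorem bijective_counit (k : ℕ) (hk : k ≤ m) :
    Function.Bijective (((SSet.skAdj m).counit.app U).app (op ⦋k⦌)) := by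
  have h : IsIso ((SSet.truncation m).map ((SSet.skAdj m).counit.app U)) :=
    isIso_of_hom_comp_eq_id _ ((SSet.skAdj m).right_triangle_components U)
  have := NatIso.isIso_app_of_isIso ((SSet.truncation m).map ((SSet.skAdj m).counit.app U))
    (op (⟨⦋k⦌, hk⟩ : SimplexCategory.Truncated m))
  exact (isIso_iff_bijective _).1 this

theorem counit_mono_and_range : Mono ((SSet.skAdj m).counit.app U) ∧
    SSet.Subcomplex.range ((SSet.skAdj m).counit.app U) = U.skeleton (m + 1) := by
  let ε := (SSet.skAdj m).counit.app U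
  let S := (SSet.Truncated.sk m).obj ((SSet.truncation m).obj U)
  have hdim : ∀ (k : ℕ) (x : S _⦋k⦌), x ∈ S.nonDegenerate k → k ≤ m := fun k x hx =>
    Nat.lt_succ_iff.1 ((S.mem_skeleton_obj_iff_of_nonDegenerate ⟨x, hx⟩ (m + 1)).1
      (mem_skeleton' m _ x))
  have hnd : ∀ (k : ℕ) (x : S _⦋k⦌), x ∈ S.nonDegenerate k → ε.app (op ⦋k⦌) x ∈ U.nonDegenerate k := by
    intro k x hx
    rw [SSet.mem_nonDegenerate_iff_notMem_degenerate] at hx ⊢
    rintro ⟨j, hj, g, z, hz⟩
    have hkm := hdim k x ((SSet.mem_nonDegenerate_iff_notMem_degenerate S x).2 hx)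
    obtain ⟨z', rfl⟩ := (bijective_counit U m j (hj.le.trans hkm)).2 z
    refine hx ⟨j, hj, g, z', (bijective_counit U m k hkm).1 ?_⟩
    exact (NatTrans.naturality_apply ε g.op z').trans hz
  constructor
  · have : ∀ k, Mono (ε.app k) := fun k => by
      rw [mono_iff_injective]
      exact injective_app ε hnd
        (fun j x hx x' _ e => (bijective_counit U m j (hdim j x hx)).1 e) k.unop.len
    exact NatTrans.mono_of_mono_app ε
  · apply le_antisymm
    · rintro ⟨k⟩ _ ⟨x, rfl⟩
      induction k using SimplexCategory.rec with | _ k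
      obtain ⟨j, g, hg, y, rfl⟩ := S.exists_nonDegenerate x
      rw [show ε.app (op ⦋k⦌) (S.map g.op y.1) = U.map g.op (ε.app _ y.1) from
        NatTrans.naturality_apply ε g.op y.1]
      exact (U.skeleton (m + 1)).map _ (U.mem_skeleton _ (Nat.lt_succ_of_le (hdim j y.1 y.2)))
    · refine iSup_le fun i => iSup_le fun x => ?_
      rw [Subcomplex.ofSimplex_le_iff]
      obtain ⟨y, hy⟩ := (bijective_counit U m i.1 (Nat.lt_succ_iff.1 i.2)).2 x.1
      exact ⟨y, hy⟩

end Groth.SkSSet
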